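import Cfsg.Agent.Lib.SingMax.NonDegSix
import Cfsg.Agent.Lib.SingMax.PointNine
import Cfsg.Agent.Lib.SingMax.UnitaryTen
import Cfsg.Agent.Lib.OrthMax.Five.Main
import Cfsg.Agent.Lib.OrthMax.EvenDim
import Cfsg.Agent.Lib.SingPair.Maximal
import Cfsg.Agent.Lib.OrthExt.Standard
import Cfsg.Agent.Lib.OrthSubfield.Nine

/-!
The geometric stabilisers in a plus-type orthogonal space of dimension twelve.
-/

set_option autoImplicit false
set_option linter.unusedSectionVars false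

namespace Cfsg.Agent.Lib.GeoTwelvePlus

open QuadraticMap Cfsg.Agent.Lib

variable {F : Type*} [Field F] [Fintype F] {Q : (Fin 12 → F) → F}

theorem two_ne_zero_of_odd_card (hodd : Odd (Fintype.card F)) : (2 : F) ≠ 0 :=
  Ring.two_ne_zero fun h => by
    have h' := FiniteField.even_card_of_char_two h
    obtain ⟨k, hk⟩ := hodd; omega

theorem singular (hQ : Cfsg.Geo.IsNondegenerateQuadraticForm Q) (W : Submodule F (Fin 12 → F)) (hW0 : W ≠ ⊥)
    (hW : Cfsg.Geo.IsTotallySingularQuad Q W) (h5 : Module.finrank F W ≠ 5) :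
    Cfsg.Geo.IsMaximalIn (Cfsg.Geo.omegaGL Q) (Cfsg.Geo.subspaceStabilizer W ⊓ Cfsg.Geo.omegaGL Q) :=
  SingMax.isMaximalIn_singular (Forms.nondegenerate_bundleQuad Q hQ) (by simp) W hW0 hW
    fun h => absurd h (by simp; omega)

theorem nondegenerate (hQ : Cfsg.Geo.IsNondegenerateQuadraticForm Q) (W : Submodule F (Fin 12 → F))
    (hW0 : W ≠ ⊥) (hW1 : W ≠ ⊤) (hW : Cfsg.Geo.IsNondegenerateOn (QuadraticMap.polar Q) W)
    (h6 : 2 * Module.finrank F W ≠ 12) (h10 : Module.finrank F W ≠ 10)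
    (hex : ¬ (Fintype.card F ≤ 3 ∧ Module.finrank F W = 2 ∧ Cfsg.Geo.IsPlusTypeOn Q W)) :
    Cfsg.Geo.IsMaximalIn (Cfsg.Geo.omegaGL Q) (Cfsg.Geo.subspaceStabilizer W ⊓ Cfsg.Geo.omegaGL Q) := by
  have hQ' := Forms.nondegenerate_bundleQuad Q hQ
  have hdU := MaxClass.finrank_polarPerp hQ' W
  have hdW := Submodule.finrank_le W
  rw [Module.finrank_fin_fun] at hdW
  rw [Fintype.card_fin] at hdU
  refine SingMax.isMaximalIn_nondegenerate_six hQ' (by simp) hW (by simp; omega) hW0 hW1 ?_ hex ?_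
  · intro h; exact absurd (by simpa using h) h6
  · rintro ⟨-, hd, -⟩
    omega

theorem point (hQ : Cfsg.Geo.IsNondegenerateQuadraticForm Q) (heven : ¬ Odd (Fintype.card F))
    (v : Fin 12 → F) (hv : Q v ≠ 0) :
    Cfsg.Geo.IsMaximalIn (Cfsg.Geo.omegaGL Q)
      (Cfsg.Geo.subspaceStabilizer (Submodule.span F {v}) ⊓ Cfsg.Geo.omegaGL Q) := by
  haveI := Forms.charP_two_of_not_odd heven
  exact SingMax.Point.isMaximalIn_point (Forms.nondegenerate_bundleQuad Q hQ) (by simp) hv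

theorem planes (hQ : Cfsg.Geo.IsNondegenerateQuadraticForm Q) (D : Fin 6 → Submodule F (Fin 12 → F))
    (hD : Cfsg.Geo.IsOrthogonalMDecomposition Q 2 D)
    (hq : 7 ≤ Fintype.card F ∨ (Fintype.card F ≠ 3 ∧ ∀ i, ¬ Cfsg.Geo.IsPlusTypeOn Q (D i))) :
    Cfsg.Geo.IsMaximalIn (Cfsg.Geo.omegaGL Q) (Cfsg.Geo.decompositionStabilizer D ⊓ Cfsg.Geo.omegaGL Q) := by
  have hb := Forms.nondegenerate_bundleQuad Q hQ
  have hc := Forms.coe_bundleQuad Q hQ
  have h : OrthMax.Dec (Forms.bundleQuad Q hQ) 2 D := ⟨by rw [hc]; exact hD.decomp⟩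
  have key := OrthMax.Five.isMaximalIn_planes_five hb h (by norm_num)
    (fun i j => by rw [hc]; exact hD.isometric i j) (by
      refine hq.imp id fun hm => ⟨fun i x hx hxQ => ?_, hm.1⟩
      by_contra hx0
      refine hm.2 i ⟨F ∙ x, ?_, ?_, ?_⟩
      · rwa [Submodule.span_le, Set.singleton_subset_iff]
      · intro y hy
        obtain ⟨c, rfl⟩ := Submodule.mem_span_singleton.mp hy
        rw [← hc, QuadraticMap.map_smul, hxQ, smul_zero]
      · rw [finrank_span_singleton hx0, h.finrank_eq])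
  rw [hc] at key
  exact key

theorem blocks (hQ : Cfsg.Geo.IsNondegenerateQuadraticForm Q) {t k : ℕ} (D : Fin t → Submodule F (Fin 12 → F))
    (hD : Cfsg.Geo.IsOrthogonalMDecomposition Q k D) (hk : 3 ≤ k)
    (h3 : k = 3 → Odd (Fintype.card F) ∧ 5 ≤ Fintype.card F) (h4 : k = 4 → 3 ≤ Fintype.card F) :
    Cfsg.Geo.IsMaximalIn (Cfsg.Geo.omegaGL Q) (Cfsg.Geo.decompositionStabilizer D ⊓ Cfsg.Geo.omegaGL Q) := by
  have hb := Forms.nondegenerate_bundleQuad Q hQ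
  have hc := Forms.coe_bundleQuad Q hQ
  have h : OrthMax.Dec (Forms.bundleQuad Q hQ) k D := ⟨by rw [hc]; exact hD.decomp⟩
  have key := OrthMax.isMaximalIn_decomp hb (by simp) h hk
    (fun hk3 => ⟨two_ne_zero_of_odd_card (h3 hk3).1, by rw [Nat.card_eq_fintype_card]; exact (h3 hk3).2⟩)
    (fun hk4 hq => by
      have := h4 hk4
      rw [Nat.card_eq_fintype_card] at hq
      omega)
    (Or.inr fun i j => by rw [hc]; exact hD.isometric i j)
  rw [hc] at key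
  exact key

theorem singularPair (hQ : Cfsg.Geo.IsNondegenerateQuadraticForm Q) (D : Fin 2 → Submodule F (Fin 12 → F))
    (hD : Cfsg.Geo.IsMDecomposition 6 D) (hts : ∀ i, Cfsg.Geo.IsTotallySingularQuad Q (D i)) :
    Cfsg.Geo.IsMaximalIn (Cfsg.Geo.omegaGL Q) (Cfsg.Geo.decompositionStabilizer D ⊓ Cfsg.Geo.omegaGL Q) :=
  SingPair.isMaximalIn_pair (Forms.nondegenerate_bundleQuad Q hQ) (k := 6) (by norm_num) ⟨3, rfl⟩
    (by simp) D hD hts

theorem selfAdjointField (hQ : Cfsg.Geo.IsNondegenerateQuadraticForm Q) (hodd : Odd (Fintype.card F))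
    (r : ℕ) (hr : r = 2 ∨ r = 3) (K : Subalgebra F (Matrix (Fin 12) (Fin 12) F))
    (hK : Cfsg.Geo.IsFieldSubalgebra r K) (hsa : Cfsg.Geo.IsSelfAdjointFor (QuadraticMap.polar Q) K) :
    Cfsg.Geo.IsMaximalIn (Cfsg.Geo.omegaGL Q) (Cfsg.Geo.subalgebraNormalizer K ⊓ Cfsg.Geo.omegaGL Q) := by
  classical
  have hrp : r.Prime := by rcases hr with rfl | rfl <;> norm_num
  have hB : OrthExt.Nd (Forms.bundleQuad Q hQ) := ⟨two_ne_zero_of_odd_card hodd, fun z hz => by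
    by_contra h0
    obtain ⟨x, hx⟩ := (hQ.nondegenerate z h0).2
    exact hx (hz x)⟩
  refine OrthExt.isMaximalIn_extField (Q := Forms.bundleQuad Q hQ) hB r hrp
    (by rw [Fintype.card_fin]; omega) (fun _ => by rw [Fintype.card_fin]; omega) K hK hsa ?_
  intro E _ _ _ _ _ D M hE hO a ha b hb
  refine OrthExt.commutator_mem_four hO ?_ ha hb
  have h := Module.finrank_mul_finrank F E (Fin 12 → F)
  rw [hE, Module.finrank_fin_fun] at h
  rcases hr with rfl | rfl <;> omega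

theorem unitaryField (hQ : Cfsg.Geo.IsNondegenerateQuadraticForm Q)
    (K : Subalgebra F (Matrix (Fin 12) (Fin 12) F)) (hK : Cfsg.Geo.IsFieldSubalgebra 2 K)
    (hac : Cfsg.Geo.IsAdjointClosedFor (QuadraticMap.polar Q) K)
    (hnsa : ¬ Cfsg.Geo.IsSelfAdjointFor (QuadraticMap.polar Q) K)
    (hsc : ∀ k ∈ K, ∃ c : F, ∀ v : Fin 12 → F, Q (Matrix.mulVec k v) = c * Q v) :
    Cfsg.Geo.IsMaximalIn (Cfsg.Geo.omegaGL Q) (Cfsg.Geo.subalgebraNormalizer K ⊓ Cfsg.Geo.omegaGL Q) := by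
  have hQ' := Forms.nondegenerate_bundleQuad Q hQ
  obtain ⟨θ, a, N, hspan, h⟩ := SingMax.exists_kStr hQ' K hK hac hnsa hsc
  exact SingMax.isMaximalIn_unitaryField_ten hQ' (by simp) K θ hspan h

theorem subfield (hQ : Cfsg.Geo.IsNondegenerateQuadraticForm Q) (F₀ : Subfield F) (r : ℕ)
    (P : Matrix.GeneralLinearGroup (Fin 12) F) (ζ : F) (hr : r.Prime)
    (hcard : Fintype.card F = Nat.card F₀ ^ r) (hζ : ζ ≠ 0)
    (hP : Cfsg.Geo.IsQuadFormRationalStructure (fun v : Fin 12 → F => ζ * Q v) F₀ P) :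
    Cfsg.Geo.IsMaximalIn (Cfsg.Geo.omegaGL Q) (Cfsg.Geo.subfieldSubgroup F₀ P ⊓ Cfsg.Geo.omegaGL Q) := by
  classical
  let B : QuadraticForm F (Fin 12 → F) := ζ • Forms.bundleQuad Q hQ
  have hBe : ⇑B = fun v => ζ * Q v := by
    funext v
    simp [B, Forms.coe_bundleQuad Q hQ]
  have hB : ∀ z, (∀ w, QuadraticMap.polar ⇑B z w = 0) → z = 0 := fun z hz => by
    by_contra h0
    obtain ⟨x, hx⟩ := (hQ.nondegenerate z h0).2
    refine hx ((mul_eq_zero.mp ?_).resolve_left hζ)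
    rw [← hz x, hBe]
    simp [QuadraticMap.polar, mul_sub]
  rw [← OrthSubfield.omegaGL_smul Q hζ, ← hBe]
  exact OrthSubfield.isMaximalIn_subfield_nine (Q := B) hB (by simp) F₀ r hr
    (by rwa [Nat.card_eq_fintype_card]) P fun u => by rw [hBe]; exact hP _ fun i => (u i).2

end Cfsg.Agent.Lib.GeoTwelvePlus
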