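import Cfsg.Agent.Lib.TensorForm.SympMain

/-!
The stabiliser in `Ω` of a tensor product of two symplectic spaces, the second of dimension at least five.
-/

set_option autoImplicit false
set_option linter.unusedSectionVars false

namespace Cfsg.Agent.Lib.GeoTwelvePlus

open Matrix QuadraticMap Cfsg.Agent.Lib Cfsg.Agent.Lib.TensorMax Cfsg.Agent.Lib.TensorForm

theorem isMaximalIn_tensor {F : Type*} [Field F] [Fintype F] {n : ℕ} (Q : (Fin n → F) → F) (hQ : Cfsg.Geo.IsNondegenerateQuadraticForm Q) (n₁ n₂ : ℕ) (h1 : 2 ≤ n₁) (hb : 5 ≤ n₂) (h12 : n₁ < n₂) (hex : ¬ (Fintype.card F = 2 ∧ n₁ = 2)) (e : (Fin n) ≃ Fin n₁ × Fin n₂) (P : Matrix.GeneralLinearGroup (Fin n) F) (f₁ : (Fin n₁ → F) → (Fin n₁ → F) → F) (f₂ : (Fin n₂ → F) → (Fin n₂ → F) → F) (hf₁ : Cfsg.Geo.IsSymplecticForm f₁) (hf₂ : Cfsg.Geo.IsSymplecticForm f₂) (hT : Cfsg.Geo.IsTensorFormStructure id (QuadraticMap.polar Q) f₁ f₂ e P) (hpure : (∀ (x₁ : Fin n₁ → F) (x₂ : Fin n₂ →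 F), Q (Matrix.mulVec (P : Matrix (Fin n) (Fin n) F) ((fun a : Fin n₁ × Fin n₂ => x₁ a.1 * x₂ a.2) ∘ e)) = 0)) : Cfsg.Geo.IsMaximalIn (Cfsg.Geo.omegaGL Q) (Cfsg.Geo.tensorProductSubgroup n₁ n₂ e P ⊓ Cfsg.Geo.omegaGL Q) := by
  classical
  have mk : ∀ {m : ℕ} {f : (Fin m → F) → (Fin m → F) → F}, Cfsg.Geo.IsSymplecticForm f → IsAlt f :=
    fun {m f} hf => ⟨⟨hf.bilinear.add_left, hf.bilinear.smul_left,
      fun v w => by rw [RingHom.id_apply, neg_one_mul]; exact hf.skew w v,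
      fun v hv => (hf.nondegenerate v hv).2, fun s => rfl, by simp⟩, hf.alternating⟩
  obtain ⟨c, hc0, hc⟩ := hT
  have g₂ := mk hf₂
  have g₁₀ := mk hf₁
  let f₁' : (Fin n₁ → F) → (Fin n₁ → F) → F := fun v w => c * f₁ v w
  have g₁ : IsAlt f₁' :=
    ⟨⟨fun x y v => by simp only [f₁', g₁₀.form.add_left, mul_add],
      fun r x v => by simp only [f₁', g₁₀.form.smul_left]; ring,
      fun v w => by simp only [f₁', g₁₀.swap v w, RingHom.id_apply]; ring,
      fun v hv => (g₁₀.form.nondeg v hv).imp fun w hw => mul_ne_zero hc0 hw,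
      fun s => rfl, by simp⟩, fun v => by simp only [f₁', g₁₀.self, mul_zero]⟩
  let q := Forms.bundleQuad Q hQ
  let Lv : (Fin n₁ × Fin n₂ → F) →ₗ[F] (Fin n → F) :=
    (Matrix.mulVecLin (P : Matrix (Fin n) (Fin n) F)) ∘ₗ LinearMap.funLeft F F e
  have hLv : ∀ v, Lv v = (P : Matrix (Fin n) (Fin n) F) *ᵥ (v ∘ e) := fun v => rfl
  have hsur : Function.Surjective Lv := fun v => by
    refine ⟨(((P⁻¹ : GL (Fin n) F) : Matrix (Fin n) (Fin n) F) *ᵥ v) ∘ e.symm, ?_⟩
    rw [hLv, Function.comp_assoc, Equiv.symm_comp_self, Function.comp_id, Matrix.mulVec_mulVec,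
      ← Units.val_mul, mul_inv_cancel, Units.val_one, Matrix.one_mulVec]
  let Q' : QuadraticForm F (Fin n₁ × Fin n₂ → F) := q.comp Lv
  have hQ' : ∀ v, Q' v = Q (Lv v) := fun v => rfl
  have hpol : ∀ X Y, QuadraticMap.polar ⇑Q' (ev X) (ev Y) = tB f₁' f₂ X Y := fun X Y => by
    have : QuadraticMap.polar ⇑Q' (ev X) (ev Y) = QuadraticMap.polar Q (Lv (ev X)) (Lv (ev Y)) := by
      simp only [QuadraticMap.polar, hQ', map_add]
    rw [this, hLv, hLv, hc]
    have hg := tB_gram g₁₀.form g₂.form X Y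
    rw [show tB f₁' f₂ X Y = c * tB f₁ f₂ X Y by rw [tB, tB, Finset.mul_sum], ← hg]
    rfl
  have hnd : (QuadraticMap.polarBilin Q').Nondegenerate := by
    have hinj : Function.Injective Lv := fun v w h => by
      rw [hLv, hLv] at h
      have h' := congrArg (fun z => ((P⁻¹ : GL (Fin n) F) : Matrix (Fin n) (Fin n) F) *ᵥ z) h
      simp only [Matrix.mulVec_mulVec, ← Units.val_mul, inv_mul_cancel, Units.val_one,
        Matrix.one_mulVec] at h'
      exact funext fun i => by simpa using congrFun h' (e.symm i)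
    have hp : ∀ v w, QuadraticMap.polar ⇑Q' v w = QuadraticMap.polar Q (Lv v) (Lv w) := fun v w => by
      simp only [QuadraticMap.polar, hQ', map_add]
    constructor
    · intro v hv
      by_contra h
      obtain ⟨-, y, hy⟩ := hQ.nondegenerate (Lv v) (fun h0 => h (hinj (h0.trans (map_zero Lv).symm)))
      obtain ⟨w, rfl⟩ := hsur y
      exact hy ((hp v w).symm.trans (hv w))
    · intro w hw
      by_contra h
      obtain ⟨⟨y, hy⟩, -⟩ := hQ.nondegenerate (Lv w) (fun h0 => h (hinj (h0.trans (map_zero Lv).symm)))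
      obtain ⟨v, rfl⟩ := hsur y
      exact hy ((hp v w).symm.trans (hw v))
  have O : OSetup f₁' f₂ Q' := ⟨g₁, g₂, fun x y => by rw [hQ', hLv]; exact hpure x y, hpol, hnd, h1, h12, hb⟩
  have h := isMaximalIn_tensorOmega O fun ha2 h20 => by
    by_contra hno
    push Not at hno
    refine hex ⟨?_, ha2⟩
    have : ∀ x : F, x = 0 ∨ x = 1 := fun x => or_iff_not_imp_left.2 (hno x)
    have hle : Fintype.card F ≤ 2 := by
      calc Fintype.card F = (Finset.univ : Finset F).card := rfl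
        _ ≤ ({0, 1} : Finset F).card := Finset.card_le_card fun x _ => by
          rcases this x with h | h <;> simp [h]
        _ ≤ 2 := Finset.card_le_two
    have := Fintype.one_lt_card (α := F)
    omega
  let Φ : GL (Fin n₁ × Fin n₂) F ≃* GL (Fin n) F :=
    (Cfsg.Geo.glReindex e.symm).trans (MulAut.conj P)
  have hL : ∀ (g : GL (Fin n₁ × Fin n₂) F) v,
      Lv ((g : Matrix (Fin n₁ × Fin n₂) (Fin n₁ × Fin n₂) F) *ᵥ v)
        = (Φ g : Matrix (Fin n) (Fin n) F) *ᵥ Lv v := fun g v => by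
    have hΦ : (Φ g : Matrix (Fin n) (Fin n) F) = (P : Matrix (Fin n) (Fin n) F) *
        (g : Matrix (Fin n₁ × Fin n₂) (Fin n₁ × Fin n₂) F).submatrix e e *
        ((P⁻¹ : GL (Fin n) F) : Matrix (Fin n) (Fin n) F) := rfl
    rw [hLv, hLv, hΦ, Matrix.mulVec_mulVec, Matrix.mul_assoc, ← Units.val_mul, inv_mul_cancel,
      Units.val_one, Matrix.mul_one, ← Matrix.mulVec_mulVec, Matrix.submatrix_mulVec_equiv,
      Function.comp_assoc, Equiv.self_comp_symm, Function.comp_id]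
  have hΩ := map_omegaGL (Q₁ := ⇑Q') (Q₂ := Q) Φ fun g => by
    rw [Orth.mem_isometryGroup_iff,
      show Φ g ∈ Cfsg.isometryGroup F Q ↔ ∀ v, q ((Φ g : Matrix (Fin n) (Fin n) F) *ᵥ v) = q v
        from Orth.mem_isometryGroup_iff (Q := q)]
    refine ⟨fun hg v => ?_, fun hg v => ?_⟩
    · obtain ⟨w, rfl⟩ := hsur v
      rw [← hL]; exact hg w
    · rw [hQ', hQ', hL]; exact hg (Lv v)
  have hmap := isMaximalIn_map Φ h
  rw [Subgroup.map_inf _ _ _ Φ.injective, hΩ] at hmap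
  rw [Cfsg.Geo.tensorProductSubgroup, Subgroup.map_map]
  exact hmap
where
  isMaximalIn_map {G H : Type _} [Group G] [Group H] (Φ : G ≃* H) {K L : Subgroup G}
      (h : Cfsg.Geo.IsMaximalIn K L) :
      Cfsg.Geo.IsMaximalIn (K.map Φ.toMonoidHom) (L.map Φ.toMonoidHom) := by
    obtain ⟨hlt, hmax⟩ := h
    have hinj : Function.Injective Φ.toMonoidHom := Φ.injective
    refine ⟨lt_of_le_of_ne (Subgroup.map_mono hlt.le) fun e => hlt.ne (Subgroup.map_injective hinj e),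
      fun M h1 h2 => ?_⟩
    have hM : M = (M.comap Φ.toMonoidHom).map Φ.toMonoidHom :=
      (Subgroup.map_comap_eq_self_of_surjective Φ.surjective M).symm
    rw [hM] at h1 h2 ⊢
    rw [Subgroup.map_le_map_iff_of_injective hinj] at h1 h2
    rcases hmax _ h1 h2 with e | e
    · exact Or.inl (by rw [e])
    · exact Or.inr (by rw [e])

end Cfsg.Agent.Lib.GeoTwelvePlus
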